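import Cfsg.Agent.H481.Hall.Rep

/-!
# Frames: `TQ (t i) (Q i) (Kt ρ (t i))` and dimensions (S2223, stub S4; helper481)
-/

set_option autoImplicit false

namespace Cfsg.Agent.H481.Hall

open Subgroup Cfsg.Agent.Cit Cfsg.Agent.H125.Hall Module

section

variable {k : Type*} [Field k] {V : Type*} [AddCommGroup V] [Module k V]
  {A : Type*} [Group A] {ρ : A →* (V →ₗ[k] V)}

theorem mem_mv {g : A} {w : V} : w ∈ mv ρ g ↔ ∃ v, ρ g v - v = w := by
  rw [mv, LinearMap.mem_range]
  rfl

theorem rho_sq {t : A} (ht : t * t = 1) (v : V) : ρ t (ρ t v) = v := by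
  rw [← Module.End.mul_apply, ← map_mul, ht, map_one, Module.End.one_apply]

/-- `[V, t]` is the `-1`-eigenspace of the involution `t` -/
theorem mem_mv_iff (h2 : (2 : k) ≠ 0) {t : A} (ht : t * t = 1) {w : V} : w ∈ mv ρ t ↔ ρ t w = -w := by
  rw [mem_mv]
  constructor
  · rintro ⟨v, rfl⟩
    rw [map_sub, rho_sq ht, neg_sub]
  · intro h
    refine ⟨-(2 : k)⁻¹ • w, ?_⟩
    rw [map_smul, h, smul_neg, neg_smul, neg_neg, sub_neg_eq_add, ← add_smul, ← two_mul, mul_inv_cancel₀ h2, one_smul]

/-- the decomposition of `v` -/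
theorem split (h2 : (2 : k) ≠ 0) {t : A} (ht : t * t = 1) (v : V) :
    ∃ u f : V, ρ t u = -u ∧ ρ t f = f ∧ v = u + f := by
  refine ⟨(2 : k)⁻¹ • (v - ρ t v), (2 : k)⁻¹ • (v + ρ t v), ?_, ?_, ?_⟩
  · rw [map_smul, map_sub, rho_sq ht, ← smul_neg, neg_sub]
  · rw [map_smul, map_add, rho_sq ht, add_comm]
  · rw [← smul_add, sub_add_add_cancel, ← two_smul k v, smul_smul, inv_mul_cancel₀ h2, one_smul]

theorem rho_comm {x y : A} (h : x * y = y * x) (v : V) : ρ x (ρ y v) = ρ y (ρ x v) := by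
  rw [← Module.End.mul_apply, ← map_mul, h, map_mul, Module.End.mul_apply]

variable [FiniteDimensional k V]

/-- there is no involution of determinant 1 with `dim [V, x] = 1` -/
theorem finrank_mv_ne_one (h2 : (2 : k) ≠ 0) {x : A} (hx : x * x = 1) (hdet : LinearMap.det (ρ x) = 1) :
    finrank k (mv ρ x) ≠ 1 := by
  intro h1
  obtain ⟨w, hw0, hw⟩ := finrank_eq_one_iff'.1 h1
  have hw0' : (w : V) ≠ 0 := fun h => hw0 (Subtype.ext h)
  have hsi : Function.Injective fun r : k => r • (w : V) := smul_left_injective k hw0'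
  have h3 : ∀ v : V, ∃ c : k, ρ x v - v = c • (w : V) := by
    intro v
    obtain ⟨c, hc⟩ := hw ⟨ρ x v - v, mem_mv.2 ⟨v, rfl⟩⟩
    exact ⟨c, by rw [← Submodule.coe_smul, hc]⟩
  choose φ hφ using h3
  let f : Dual k V :=
    { toFun := φ
      map_add' := fun u v => hsi (by
        show φ (u + v) • (w : V) = (φ u + φ v) • (w : V)
        rw [add_smul, ← hφ, ← hφ, ← hφ, map_add]; abel)
      map_smul' := fun r v => hsi (by
        show φ (r • v) • (w : V) = (r * φ v) • (w : V)
        rw [mul_smul, ← hφ, ← hφ, map_smul, smul_sub]) }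
  have h4 : ρ x = LinearMap.transvection f (w : V) := by
    refine LinearMap.ext fun v => ?_
    rw [LinearMap.transvection.apply]
    show ρ x v = v + φ v • (w : V)
    rw [← hφ]; abel
  rw [h4, LinearMap.transvection.det, add_eq_left] at hdet
  have h5 : ρ x w = w := by
    have h6 := hφ (w : V)
    rw [show φ (w : V) = 0 from hdet, zero_smul, sub_eq_zero] at h6
    exact h6
  have h7 : ρ x w = -w := (mem_mv_iff h2 hx).1 w.2
  rw [h5] at h7
  apply hw0'
  have h8 : (2 : k) • (w : V) = 0 := by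
    rw [two_smul]
    nth_rw 2 [h7]
    exact add_neg_cancel _
  exact (smul_eq_zero.1 h8).resolve_left h2

end

theorem exists_noncomm {G : Type*} [Group G] {Q : Subgroup G} (h : AutQuat.IsQ Q) :
    ∃ x ∈ Q, ∃ y ∈ Q, x * y ≠ y * x := by
  obtain ⟨x, hx, h4⟩ := h.exists_four
  obtain ⟨y, hy, hyx⟩ := h.exists_inverts x hx
  refine ⟨x, hx, y, hy, fun hc => ?_⟩
  rw [← hc, mul_assoc, mul_inv_cancel, mul_one] at hyx
  have h1 : x ^ 2 = 1 := by
    rw [pow_two]
    nth_rw 2 [hyx]
    exact mul_inv_cancel x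
  have h2 := orderOf_dvd_of_pow_eq_one h1
  rw [h4] at h2
  exact absurd h2 (by norm_num)

section

variable {k : Type*} [Field k] {V : Type*} [AddCommGroup V] [Module k V] [FiniteDimensional k V]
  {A : Type*} [Group A] {ρ : A →* (V →ₗ[k] V)} {S : Sylow 2 A} {ι : Type*} {t : ι → A} {Q : ι → Subgroup A}
  {V0 : Submodule k V}

omit [FiniteDimensional k V] in
theorem sq_one (h : Fr ρ S t Q V0) (i : ι) : t i * t i = 1 := by
  have h1 := pow_orderOf_eq_one (t i)
  rwa [h.ord i, pow_two] at h1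

/-- **`t i` is tightly embedded** -/
theorem tq_of_fr (h : Fr ρ S t Q V0) (i : ι) : TQ (t i) (Q i) (Kt ρ (t i)) where
  isQ := h.isQ i
  le := h.QK i
  mem := h.mem i
  ord := h.ord i
  uniq := by
    intro x hx hx2
    have ht : t i * t i = 1 := sq_one h i
    have hxx : x * x = 1 := by
      have h1 := pow_orderOf_eq_one x
      rwa [hx2, pow_two] at h1
    have hle : mv ρ x ≤ mv ρ (t i) := by
      intro w hw
      obtain ⟨v, rfl⟩ := mem_mv.1 hw
      obtain ⟨u, f, hu, hf, rfl⟩ := split (ρ := ρ) h.two ht v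
      rw [map_add, hx.2 f hf, add_sub_add_right_eq_sub, mem_mv_iff h.two ht, map_sub, ← rho_comm hx.1, hu, map_neg]
      abel
    have hfr := Submodule.finrank_mono hle
    rw [h.dim i] at hfr
    have h1 : finrank k (mv ρ x) ≠ 1 := finrank_mv_ne_one h.two hxx (h.det x)
    have h0 : finrank k (mv ρ x) ≠ 0 := by
      intro h0
      rw [Submodule.finrank_eq_zero] at h0
      have : x = 1 := by
        apply h.inj
        refine LinearMap.ext fun v => ?_
        have h3 : ρ x v - v ∈ mv ρ x := mem_mv.2 ⟨v, rfl⟩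
        rw [h0, Submodule.mem_bot, sub_eq_zero] at h3
        rw [h3, map_one, Module.End.one_apply]
      rw [this, orderOf_one] at hx2
      exact absurd hx2 (by norm_num)
    have heq : mv ρ x = mv ρ (t i) := Submodule.eq_of_le_of_finrank_le hle (by rw [h.dim i]; omega)
    apply h.inj
    refine LinearMap.ext fun v => ?_
    obtain ⟨u, f, hu, hf, rfl⟩ := split (ρ := ρ) h.two ht v
    have h3 : u ∈ mv ρ x := by rw [heq]; exact (mem_mv_iff h.two ht).2 hu
    rw [map_add, map_add, hx.2 f hf, hf, (mem_mv_iff h.two hxx).1 h3, hu]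
  norm := by
    intro x hx y hy
    have hx' : x⁻¹ * t i = t i * x⁻¹ := by
      rw [inv_mul_eq_iff_eq_mul, ← mul_assoc, hx, mul_inv_cancel_right]
    refine ⟨?_, fun v hv => ?_⟩
    · rw [mul_assoc, hx', ← mul_assoc, mul_assoc x, hy.1, ← mul_assoc, hx, mul_assoc, mul_assoc, mul_assoc]
    · have h1 : ρ (t i) (ρ x⁻¹ v) = ρ x⁻¹ v := by rw [← rho_comm hx', hv]
      rw [map_mul, map_mul, Module.End.mul_apply, Module.End.mul_apply, hy.2 _ h1, ← Module.End.mul_apply,
        ← map_mul, mul_inv_cancel, map_one, Module.End.one_apply]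

/-- operators commuting with a non-scalar operator on a plane commute -/
theorem plane_comm {U : Submodule k V} (hU : finrank k U = 2) (c x y : V →ₗ[k] V) (hcU : ∀ u ∈ U, c u ∈ U)
    (hxU : ∀ u ∈ U, x u ∈ U) (hyU : ∀ u ∈ U, y u ∈ U) (hcx : ∀ u ∈ U, c (x u) = x (c u))
    (hcy : ∀ u ∈ U, c (y u) = y (c u)) (hns : ¬ ∃ r : k, ∀ u ∈ U, c u = r • u) : ∀ u ∈ U, x (y u) = y (x u) := by
  -- a vector with `u`, `c u` independent
  have h1 : ∃ u ∈ U, u ≠ 0 ∧ ∀ r : k, c u ≠ r • u := by
    by_contra hcon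
    push Not at hcon
    apply hns
    have h2 : 0 < finrank k U := by omega
    have : Nontrivial U := Module.finrank_pos_iff.1 h2
    obtain ⟨u0, hu0⟩ := exists_ne (0 : U)
    have hu00 : (u0 : V) ≠ 0 := fun h => hu0 (Subtype.ext h)
    obtain ⟨r, hr⟩ := hcon u0 u0.2 hu00
    refine ⟨r, fun u hu => ?_⟩
    by_cases hu0' : u = 0
    · rw [hu0', map_zero, smul_zero]
    obtain ⟨s, hs⟩ := hcon u hu hu0'
    by_cases hsum : (u0 : V) + u = 0
    · have h3 : u = -(u0 : V) := (neg_eq_of_add_eq_zero_right hsum).symm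
      rw [h3, map_neg, hr, smul_neg]
    obtain ⟨q, hq⟩ := hcon (u0 + u) (U.add_mem u0.2 hu) hsum
    rw [map_add, hr, hs, smul_add] at hq
    have h4 : (r - q) • (u0 : V) = (q - s) • u := by
      rw [sub_smul, sub_smul, sub_eq_sub_iff_add_eq_add, hq]
      abel
    by_cases hqs : q = s
    · rw [hqs, sub_self, zero_smul] at h4
      have h5 := (smul_eq_zero.1 h4).resolve_right hu00
      rw [hs, sub_eq_zero.1 h5]
    · have h5 : u = ((q - s)⁻¹ * (r - q)) • (u0 : V) := by
        rw [mul_smul, h4, smul_smul, inv_mul_cancel₀ (sub_ne_zero.2 hqs), one_smul]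
      rw [h5, map_smul, hr, smul_comm]
  obtain ⟨u, hu, hu0, hcu⟩ := h1
  have hli : LinearIndependent k ![(⟨u, hu⟩ : U), ⟨c u, hcU u hu⟩] := by
    rw [LinearIndependent.pair_iff]
    intro a b hab
    have h2 : a • u + b • c u = 0 := congrArg Subtype.val hab
    by_cases hb : b = 0
    · rw [hb, zero_smul, add_zero] at h2
      exact ⟨(smul_eq_zero.1 h2).resolve_right hu0, hb⟩
    · exfalso
      refine hcu (-(b⁻¹ * a)) ?_
      have h3 : b • c u = -(a • u) := (neg_eq_of_add_eq_zero_right h2).symm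
      rw [neg_smul, mul_smul, ← smul_neg, ← h3, smul_smul, inv_mul_cancel₀ hb, one_smul]
  have hspan : ∀ w ∈ U, ∃ a b : k, w = a • u + b • c u := by
    intro w hw
    have h2 := hli.span_eq_top_of_card_eq_finrank (by simp [hU])
    have h3 : (⟨w, hw⟩ : U) ∈ Submodule.span k (Set.range ![(⟨u, hu⟩ : U), ⟨c u, hcU u hu⟩]) := by
      rw [h2]; trivial
    rw [Matrix.range_cons, Matrix.range_cons, Matrix.range_empty, Set.union_empty, Set.singleton_union,
      Submodule.mem_span_pair] at h3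
    obtain ⟨a, b, hab⟩ := h3
    exact ⟨a, b, (congrArg Subtype.val hab).symm⟩
  -- an operator commuting with `c` is a polynomial in `c`
  have key : ∀ z : V →ₗ[k] V, (∀ u ∈ U, z u ∈ U) → (∀ u ∈ U, c (z u) = z (c u)) →
      ∃ a b : k, ∀ w ∈ U, z w = a • w + b • c w := by
    intro z hz hcz
    obtain ⟨a, b, hab⟩ := hspan (z u) (hz u hu)
    refine ⟨a, b, fun w hw => ?_⟩
    obtain ⟨p, q, rfl⟩ := hspan w hw
    have h3 : z (c u) = a • c u + b • c (c u) := by
      rw [← hcz u hu, hab, map_add, map_smul, map_smul]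
    simp only [map_add, map_smul, hab, h3, smul_add, smul_smul, mul_comm]
    abel
  obtain ⟨a, b, hab⟩ := key x hxU hcx
  intro w hw
  rw [hab w hw, hab (y w) (hyU w hw), map_add, map_smul, map_smul, hcy w hw]

omit [FiniteDimensional k V] in
theorem QU {h : Fr ρ S t Q V0} {i : ι} {x : A} (hx : x * t i = t i * x) : ∀ u ∈ mv ρ (t i), ρ x u ∈ mv ρ (t i) := by
  intro u hu
  rw [mem_mv_iff h.two (sq_one h i)] at hu ⊢
  rw [← rho_comm hx, hu, map_neg]

/-- what commutes with `Q i` is scalar on `U i` -/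
theorem scalar_of_comm (h : Fr ρ S t Q V0) (i : ι) {c : A} (hc : ∀ q ∈ Q i, c * q = q * c) :
    ∃ r : k, ∀ u ∈ mv ρ (t i), ρ c u = r • u := by
  by_contra hns
  obtain ⟨x, hx, y, hy, hxy⟩ := exists_noncomm (h.isQ i)
  apply hxy
  have hU := fun z (hz : z * t i = t i * z) => QU (h := h) hz
  have h1 := plane_comm (h.dim i) (ρ c) (ρ x) (ρ y) (hU c (hc _ (h.mem i)))
    (hU x (h.QK i hx).1) (hU y (h.QK i hy).1) (fun u _ => rho_comm (hc x hx) u) (fun u _ => rho_comm (hc y hy) u) hns
  apply h.inj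
  refine LinearMap.ext fun v => ?_
  obtain ⟨u, f, hu, hf, rfl⟩ := split (ρ := ρ) h.two (sq_one h i) v
  rw [map_mul, map_mul, Module.End.mul_apply, Module.End.mul_apply, map_add, map_add, map_add, map_add,
    (h.QK i hy).2 f hf, (h.QK i hx).2 f hf, (h.QK i hy).2 f hf, h1 u ((mem_mv_iff h.two (sq_one h i)).2 hu)]

/-- `t j` is trivial on `U i`, `i ≠ j` -/
theorem t_triv (h : Fr ρ S t Q V0) {i j : ι} (hij : i ≠ j) : ∀ u ∈ mv ρ (t i), ρ (t j) u = u := by
  obtain ⟨r, hr⟩ := scalar_of_comm h i (c := t j) (fun q hq => h.comm j i hij.symm (t j) (h.mem j) q hq)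
  have h0 : ∃ u ∈ mv ρ (t i), u ≠ 0 := by
    by_contra hcon
    push Not at hcon
    have h1 : mv ρ (t i) = ⊥ := (Submodule.eq_bot_iff _).2 hcon
    have h2 := h.dim i
    rw [h1, finrank_bot] at h2
    exact absurd h2 (by norm_num)
  obtain ⟨u0, hu0, hu00⟩ := h0
  have hrr : r = 1 ∨ r = -1 := by
    have h1 := rho_sq (ρ := ρ) (sq_one h j) u0
    rw [hr u0 hu0, map_smul, hr u0 hu0, smul_smul] at h1
    have h2 : (r * r - 1) • u0 = 0 := by rw [sub_smul, h1, one_smul, sub_self]
    have h3 := (smul_eq_zero.1 h2).resolve_right hu00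
    exact mul_self_eq_one_iff.1 (sub_eq_zero.1 h3)
  rcases hrr with rfl | rfl
  · intro u hu
    rw [hr u hu, one_smul]
  · exfalso
    have hle : mv ρ (t i) ≤ mv ρ (t j) := by
      intro u hu
      rw [mem_mv_iff h.two (sq_one h j), hr u hu, neg_smul, one_smul]
    have heq : mv ρ (t i) = mv ρ (t j) := Submodule.eq_of_le_of_finrank_le hle (by rw [h.dim i, h.dim j])
    obtain ⟨x, hx, y, hy, hxy⟩ := exists_noncomm (h.isQ j)
    obtain ⟨a, ha⟩ := scalar_of_comm h i (c := x) (fun q hq => h.comm j i hij.symm x hx q hq)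
    obtain ⟨b, hb⟩ := scalar_of_comm h i (c := y) (fun q hq => h.comm j i hij.symm y hy q hq)
    apply hxy
    apply h.inj
    refine LinearMap.ext fun v => ?_
    obtain ⟨u, f, hu, hf, rfl⟩ := split (ρ := ρ) h.two (sq_one h j) v
    have hu' : u ∈ mv ρ (t i) := by rw [heq]; exact (mem_mv_iff h.two (sq_one h j)).2 hu
    rw [map_mul, map_mul, Module.End.mul_apply, Module.End.mul_apply, map_add, map_add, map_add, map_add,
      (h.QK j hy).2 f hf, (h.QK j hx).2 f hf, (h.QK j hy).2 f hf, ha u hu', hb u hu', map_smul, map_smul, ha u hu',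
      hb u hu', smul_comm]

/-- the common fixed points of `t j`, `j ∈ J` -/
def Fj (ρ : A →* (V →ₗ[k] V)) (t : ι → A) (J : Finset ι) : Submodule k V where
  carrier := {v | ∀ j ∈ J, ρ (t j) v = v}
  add_mem' := fun {v w} hv hw x hx => by rw [map_add, hv x hx, hw x hx]
  zero_mem' := fun x _ => map_zero _
  smul_mem' := fun c v hv x hx => by rw [map_smul, hv x hx]

theorem finrank_Fj (h : Fr ρ S t Q V0) (J : Finset ι) : finrank k (Fj ρ t J) + 2 * J.card = finrank k V := by
  classical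
  induction J using Finset.induction_on with
  | empty =>
    have h1 : Fj ρ t (∅ : Finset ι) = ⊤ := by
      rw [eq_top_iff]
      intro v _ j hj
      exact absurd hj (Finset.notMem_empty j)
    rw [h1, finrank_top]
    rfl
  | insert i J hi ih =>
    have hti := sq_one h i
    have hle : mv ρ (t i) ≤ Fj ρ t J := by
      intro u hu j hj
      exact t_triv h (fun he : i = j => hi (by rw [he]; exact hj)) u hu
    have hle' : Fj ρ t (insert i J) ≤ Fj ρ t J := fun v hv j hj => hv j (Finset.mem_insert_of_mem hj)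
    have hinf : mv ρ (t i) ⊓ Fj ρ t (insert i J) = ⊥ := by
      rw [Submodule.eq_bot_iff]
      intro v hv
      have h1 := (mem_mv_iff h.two hti).1 hv.1
      rw [hv.2 i (Finset.mem_insert_self i J)] at h1
      have h8 : (2 : k) • v = 0 := by
        rw [two_smul]
        nth_rw 2 [h1]
        exact add_neg_cancel _
      exact (smul_eq_zero.1 h8).resolve_left h.two
    have hsup : mv ρ (t i) ⊔ Fj ρ t (insert i J) = Fj ρ t J := by
      refine le_antisymm (sup_le hle hle') fun v hv => ?_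
      obtain ⟨u, f, hu, hf, rfl⟩ := split (ρ := ρ) h.two hti v
      refine Submodule.add_mem_sup ((mem_mv_iff h.two hti).2 hu) ?_
      intro j hj
      rcases Finset.mem_insert.1 hj with rfl | hj
      · exact hf
      · have h1 := hv j hj
        rw [map_add, hle ((mem_mv_iff h.two hti).2 hu) j hj, add_right_inj] at h1
        exact h1
    have h1 := Submodule.finrank_sup_add_finrank_inf_eq (mv ρ (t i)) (Fj ρ t (insert i J))
    rw [hsup, hinf, finrank_bot, add_zero, h.dim i] at h1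
    rw [Finset.card_insert_of_notMem hi]
    omega

/-- **The dimension of `V`** -/
theorem finrank_eq [Finite ι] (h : Fr ρ S t Q V0) : finrank k V = finrank k V0 + 2 * Nat.card ι := by
  classical
  have := Fintype.ofFinite ι
  have h1 := finrank_Fj h Finset.univ
  have h2 : Fj ρ t Finset.univ = V0 := by
    ext v
    rw [h.V0_eq]
    constructor
    · intro hv i
      exact hv i (Finset.mem_univ i)
    · intro hv i _
      exact hv i
  rw [h2, Finset.card_univ, ← Nat.card_eq_fintype_card] at h1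
  exact h1.symm

end

end Cfsg.Agent.H481.Hall
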