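import Cfsg.Agent.H125.Hall.Defs

/-!
# Representation theory for `FrSp.not_irr` (S2223, stub S4; helper481)

* `schur`, `exists_common` : Schur's lemma and common eigenvectors;
* `card_sq_le` : an abelian group of exponent 3 (of order prime to the characteristic) which acts faithfully and
  preserves a non-degenerate alternating form on `V` satisfies `|D| ^ 2 ≤ 3 ^ dim V`;
* `tq_of_fr` : `TQ (t i) (Q i) (Kt ρ (t i))` for frames.
-/

set_option autoImplicit false

namespace Cfsg.Agent.H481.Hall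

open Subgroup Cfsg.Agent.H125.Hall Module

section

variable {k : Type*} [Field k] {V : Type*} [AddCommGroup V] [Module k V] [FiniteDimensional k V]
  {A : Type*} [Group A]

/-- **Schur's lemma** -/
theorem schur [IsAlgClosed k] [Nontrivial V] (ρ : A →* (V →ₗ[k] V)) {L : Subgroup A}
    (hirr : ∀ W : Submodule k V, (∀ x ∈ L, ∀ v ∈ W, ρ x v ∈ W) → W = ⊥ ∨ W = ⊤) (f : V →ₗ[k] V)
    (hf : ∀ x ∈ L, ∀ v, f (ρ x v) = ρ x (f v)) : ∃ c : k, ∀ v, f v = c • v := by
  obtain ⟨c, hc⟩ := Module.End.exists_eigenvalue f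
  refine ⟨c, fun v => ?_⟩
  have h1 : Module.End.eigenspace f c = ⊥ ∨ Module.End.eigenspace f c = ⊤ := hirr _ (fun x hx v hv => by
    rw [Module.End.mem_eigenspace_iff] at hv ⊢
    rw [hf x hx, hv, map_smul])
  rcases h1 with h1 | h1
  · exact absurd h1 hc
  · have : v ∈ Module.End.eigenspace f c := by rw [h1]; trivial
    exact Module.End.mem_eigenspace_iff.1 this

/-- a common eigenvector of a commutative subgroup in an invariant subspace -/
theorem exists_common [IsAlgClosed k] (ρ : A →* (V →ₗ[k] V)) {D : Subgroup A}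
    (hD : ∀ x ∈ D, ∀ y ∈ D, x * y = y * x) :
    ∀ (n : ℕ) (W : Submodule k V), finrank k W = n → W ≠ ⊥ → (∀ x ∈ D, ∀ v ∈ W, ρ x v ∈ W) →
    ∃ v ∈ W, v ≠ 0 ∧ ∀ x ∈ D, ∃ c : k, ρ x v = c • v := by
  intro n
  induction n using Nat.strong_induction_on with
  | _ n ih =>
    intro W hn hW hWD
    by_cases hall : ∀ x ∈ D, ∃ c : k, ∀ v ∈ W, ρ x v = c • v
    · obtain ⟨v, hv, hv0⟩ := Submodule.exists_mem_ne_zero_of_ne_bot hW
      exact ⟨v, hv, hv0, fun x hx => (hall x hx).imp fun c hc => hc v hv⟩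
    · push Not at hall
      obtain ⟨x, hx, hx'⟩ := hall
      have : Nontrivial W := Submodule.nontrivial_iff_ne_bot.2 hW
      obtain ⟨c, hc⟩ := Module.End.exists_eigenvalue ((ρ x).restrict (hWD x hx))
      obtain ⟨w, hw⟩ := hc.exists_hasEigenvector
      have hw1 : ρ x (w : V) = c • (w : V) := by
        have h1 := hw.apply_eq_smul
        have h2 := congrArg Subtype.val h1
        simpa using h2
      have hw0 : (w : V) ≠ 0 := fun h => hw.2 (Subtype.ext h)
      have hlt : W ⊓ Module.End.eigenspace (ρ x) c < W := by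
        refine lt_of_le_of_ne inf_le_left fun h => ?_
        obtain ⟨v, hv, hv'⟩ := hx' c
        have h1 : v ∈ W ⊓ Module.End.eigenspace (ρ x) c := by rw [h]; exact hv
        exact hv' (Module.End.mem_eigenspace_iff.1 h1.2)
      have hne : W ⊓ Module.End.eigenspace (ρ x) c ≠ ⊥ := by
        intro h
        have h1 : (w : V) ∈ W ⊓ Module.End.eigenspace (ρ x) c := ⟨w.2, Module.End.mem_eigenspace_iff.2 hw1⟩
        rw [h] at h1
        exact hw0 h1
      obtain ⟨v, hv, hv0, hv'⟩ := ih _ (by rw [← hn]; exact Submodule.finrank_lt_finrank_of_lt hlt)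
        (W ⊓ Module.End.eigenspace (ρ x) c) rfl hne (fun y hy v hv => Submodule.mem_inf.2 ⟨hWD y hy v hv.1, by
          have h1 := Module.End.mem_eigenspace_iff.1 hv.2
          rw [Module.End.mem_eigenspace_iff, ← Module.End.mul_apply, ← map_mul, hD x hx y hy, map_mul,
            Module.End.mul_apply, h1, map_smul]⟩)
      exact ⟨v, hv.1, hv0, hv'⟩

/-- the fixed points of `D` -/
def Fx (ρ : A →* (V →ₗ[k] V)) (D : Subgroup A) : Submodule k V where
  carrier := {v | ∀ x ∈ D, ρ x v = v}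
  add_mem' := fun {v w} hv hw x hx => by rw [map_add, hv x hx, hw x hx]
  zero_mem' := fun x _ => map_zero _
  smul_mem' := fun c v hv x hx => by rw [map_smul, hv x hx]

omit [FiniteDimensional k V] in
theorem mem_Fx {ρ : A →* (V →ₗ[k] V)} {D : Subgroup A} {v : V} : v ∈ Fx ρ D ↔ ∀ x ∈ D, ρ x v = v := Iff.rfl

omit [FiniteDimensional k V] in
/-- the projection on the fixed points of `D` -/
theorem exists_proj (ρ : A →* (V →ₗ[k] V)) (D : Subgroup A) [Finite D] (hc : (Nat.card D : k) ≠ 0)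
    (B : LinearMap.BilinForm k V) (hB : ∀ a v w, B (ρ a v) (ρ a w) = B v w) :
    ∃ e : V →ₗ[k] V, (∀ v, e v ∈ Fx ρ D) ∧ (∀ v ∈ Fx ρ D, e v = v) ∧ (∀ x ∈ D, ∀ v, e (ρ x v) = e v) ∧
      ∀ v w, B (e v) w = B v (e w) := by
  classical
  have := Fintype.ofFinite D
  rw [Nat.card_eq_fintype_card] at hc
  refine ⟨(Fintype.card D : k)⁻¹ • ∑ x : D, ρ x, ?_, ?_, ?_, ?_⟩
  · intro v x hx
    rw [LinearMap.smul_apply, map_smul, LinearMap.sum_apply, map_sum]
    congr 1
    refine Fintype.sum_equiv (Equiv.mulLeft (⟨x, hx⟩ : D)) _ _ (fun y => ?_)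
    rw [← Module.End.mul_apply, ← map_mul]
    rfl
  · intro v hv
    rw [LinearMap.smul_apply, LinearMap.sum_apply, Finset.sum_congr rfl (fun (x : D) _ => hv x x.2),
      Finset.sum_const, Finset.card_univ, ← Nat.cast_smul_eq_nsmul k, smul_smul, inv_mul_cancel₀ hc, one_smul]
  · intro x hx v
    rw [LinearMap.smul_apply, LinearMap.smul_apply, LinearMap.sum_apply, LinearMap.sum_apply]
    congr 1
    refine Fintype.sum_equiv (Equiv.mulRight (⟨x, hx⟩ : D)) _ _ (fun y => ?_)
    rw [← Module.End.mul_apply, ← map_mul]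
    rfl
  · intro v w
    simp only [LinearMap.smul_apply, LinearMap.sum_apply, map_smul, map_sum, smul_eq_mul]
    congr 1
    refine Fintype.sum_equiv (Equiv.inv D) _ _ (fun y => ?_)
    rw [← hB (y : A)⁻¹ (ρ y v) w, ← Module.End.mul_apply, ← map_mul, inv_mul_cancel, map_one, Module.End.one_apply]
    rfl

/-- nonzero parts of an orthogonal decomposition have dimension at least 2 -/
theorem two_le (ρ : A →* (V →ₗ[k] V)) {D D' : Subgroup A} [Finite D] [Finite D'] (hle : D' ≤ D)
    (hc' : (Nat.card D' : k) ≠ 0)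
    (B : LinearMap.BilinForm k V) (hB : ∀ a v w, B (ρ a v) (ρ a w) = B v w) (hn : B.Nondegenerate) (ha : B.IsAlt)
    (e : V →ₗ[k] V) (he1 : ∀ v, e v ∈ Fx ρ D) (he2 : ∀ v ∈ Fx ρ D, e v = v)
    (he4 : ∀ v w, B (e v) w = B v (e w)) {v : V} (hv0 : v ≠ 0) (hv : v ∈ Fx ρ D') (hve : e v = 0) :
    finrank k (Fx ρ D) + 2 ≤ finrank k (Fx ρ D') := by
  obtain ⟨e', he1', he2', -, he4'⟩ := exists_proj ρ D' hc' B hB
  have hFF : Fx ρ D ≤ Fx ρ D' := fun w hw x hx => hw x (hle hx)
  set W : Submodule k V := Fx ρ D' ⊓ LinearMap.ker e with hW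
  have hvW : v ∈ W := ⟨hv, hve⟩
  have hsp : k ∙ v ≤ W := (Submodule.span_singleton_le_iff_mem _ _).2 hvW
  have h2 : 2 ≤ finrank k W := by
    by_contra hlt
    have h3 : finrank k (k ∙ v) = 1 := finrank_span_singleton hv0
    have h4 : k ∙ v = W := Submodule.eq_of_le_of_finrank_le hsp (by omega)
    apply hv0
    refine hn.1 v (fun u => ?_)
    have h5 : e' u - e (e' u) ∈ W := by
      refine Submodule.mem_inf.2 ⟨Submodule.sub_mem _ (he1' u) (hFF (he1 _)), ?_⟩
      rw [LinearMap.mem_ker, map_sub, he2 _ (he1 _), sub_self]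
    rw [← h4, Submodule.mem_span_singleton] at h5
    obtain ⟨c, hc5⟩ := h5
    have h6 : B v (e (e' u)) = 0 := by rw [← he4, hve, map_zero, LinearMap.zero_apply]
    have h7 : B v (e' u) = 0 := by
      have h8 : e' u = c • v + e (e' u) := by rw [hc5]; abel
      rw [h8, map_add, h6, map_smul, ha v, smul_zero, add_zero]
    rw [← h7, ← he4', he2' v hv]
  have hdisj : Fx ρ D ⊓ W = ⊥ := by
    rw [eq_bot_iff]
    intro w hw
    have h3 := he2 w hw.1
    rw [LinearMap.mem_ker.1 hw.2.2] at h3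
    exact h3.symm ▸ Submodule.zero_mem _
  have h3 := Submodule.finrank_sup_add_finrank_inf_eq (Fx ρ D) W
  rw [hdisj, finrank_bot, add_zero] at h3
  have h4 : finrank k ↥(Fx ρ D ⊔ W) ≤ finrank k (Fx ρ D') :=
    Submodule.finrank_mono (sup_le hFF inf_le_left)
  omega

/-- one step: a subgroup of index at most 3 with more fixed points -/
theorem exists_step [IsAlgClosed k] (ρ : A →* (V →ₗ[k] V)) [Finite A] (hcA : ∀ D : Subgroup A, (Nat.card D : k) ≠ 0)
    (B : LinearMap.BilinForm k V) (hB : ∀ a v w, B (ρ a v) (ρ a w) = B v w) (hn : B.Nondegenerate) (ha : B.IsAlt)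
    {D : Subgroup A} (hD : ∀ x ∈ D, ∀ y ∈ D, x * y = y * x) (h3 : ∀ x ∈ D, x ^ 3 = 1) (hne : Fx ρ D ≠ ⊤) :
    ∃ D' : Subgroup A, D' < D ∧ Nat.card D ≤ 3 * Nat.card D' ∧ finrank k (Fx ρ D) + 2 ≤ finrank k (Fx ρ D') := by
  obtain ⟨e, he1, he2, he3, he4⟩ := exists_proj ρ D (hcA D) B hB
  have hker : LinearMap.ker e ≠ ⊥ := by
    intro h
    apply hne
    rw [eq_top_iff]
    intro v _
    have h1 : v - e v ∈ LinearMap.ker e := by
      rw [LinearMap.mem_ker, map_sub, he2 _ (he1 _), sub_self]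
    rw [h, Submodule.mem_bot, sub_eq_zero] at h1
    rw [h1]
    exact he1 v
  obtain ⟨v, hv, hv0, hvc⟩ := exists_common ρ hD _ (LinearMap.ker e) rfl hker (fun x hx w hw => by
    rw [LinearMap.mem_ker, he3 x hx]; exact hw)
  rw [LinearMap.mem_ker] at hv
  choose c hcc using hvc
  have hsi : Function.Injective fun r : k => r • v := smul_left_injective k hv0
  let f : D →* k :=
    { toFun := fun x => c x x.2
      map_one' := hsi (by
        show c _ _ • v = (1 : k) • v
        rw [← hcc, OneMemClass.coe_one, map_one, Module.End.one_apply, one_smul])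
      map_mul' := fun x y => hsi (by
        show c _ _ • v = (c _ _ * c _ _) • v
        rw [← hcc, MulMemClass.coe_mul, map_mul, Module.End.mul_apply, hcc y y.2, map_smul, hcc x x.2, smul_smul,
          mul_comm]) }
  have hf : ∀ x : D, ρ x v = f x • v := fun x => hcc x x.2
  let g : D →* kˣ := f.toHomUnits
  have hg : ∀ x : D, ρ x v = (g x : k) • v := fun x => by rw [hf]; rfl
  have hker' : ∀ x : D, x ∈ g.ker ↔ ρ x v = v := by
    intro x
    rw [MonoidHom.mem_ker, hg]
    constructor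
    · intro h
      rw [h, Units.val_one, one_smul]
    · intro h
      apply Units.ext
      apply hsi
      show (g x : k) • v = ((1 : kˣ) : k) • v
      rw [h, Units.val_one, one_smul]
  have hcard : Nat.card D = Nat.card g.ker * Nat.card g.range := by
    rw [Subgroup.card_eq_card_quotient_mul_card_subgroup g.ker, mul_comm,
      Nat.card_congr (QuotientGroup.quotientKerEquivRange g).toEquiv]
  have hrange : Nat.card g.range ≤ 3 := by
    have h4 : g.range ≤ rootsOfUnity 3 k := by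
      rintro _ ⟨x, rfl⟩
      rw [mem_rootsOfUnity, ← map_pow]
      have : x ^ 3 = 1 := Subtype.ext (h3 x x.2)
      rw [this, map_one]
    have h5 := card_rootsOfUnity k 3

    exact (Nat.card_le_card_of_injective _ (Subgroup.inclusion_injective h4)).trans h5
  have hD'le : g.ker.map D.subtype ≤ D := by
    rintro _ ⟨x, -, rfl⟩
    exact x.2
  have hcm : Nat.card ↥(g.ker.map D.subtype) = Nat.card g.ker :=
    Nat.card_congr (g.ker.equivMapOfInjective D.subtype D.subtype_injective).toEquiv.symm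
  have hvD' : v ∈ Fx ρ (g.ker.map D.subtype) := by
    rintro _ ⟨x, hx, rfl⟩
    exact (hker' x).1 hx
  refine ⟨g.ker.map D.subtype, lt_of_le_of_ne hD'le (fun h => ?_), ?_, ?_⟩
  · have h4 : v ∈ Fx ρ D := by rw [← h]; exact hvD'
    rw [← he2 v h4, hv] at hv0
    exact hv0 rfl
  · rw [hcm, hcard, mul_comm]
    exact Nat.mul_le_mul_right _ hrange
  · exact two_le ρ hD'le (hcA _) B hB hn ha e he1 he2 he4 hv0 hvD' hv

/-- **Abelian groups of exponent 3 in `Sp(V)`**: `|D| ^ 2 ≤ 3 ^ dim V`. -/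
theorem card_sq_le [IsAlgClosed k] (ρ : A →* (V →ₗ[k] V)) (hinj : Function.Injective ρ) [Finite A]
    (hcA : ∀ D : Subgroup A, (Nat.card D : k) ≠ 0)
    (B : LinearMap.BilinForm k V) (hB : ∀ a v w, B (ρ a v) (ρ a w) = B v w) (hn : B.Nondegenerate) (ha : B.IsAlt) :
    ∀ (n : ℕ) (D : Subgroup A), Nat.card D = n → (∀ x ∈ D, ∀ y ∈ D, x * y = y * x) → (∀ x ∈ D, x ^ 3 = 1) →
      Nat.card D ^ 2 * 3 ^ finrank k (Fx ρ D) ≤ 3 ^ finrank k V := by
  intro n
  induction n using Nat.strong_induction_on with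
  | _ n ih =>
    intro D hDn hD h3
    by_cases hne : Fx ρ D = ⊤
    · have h1 : D = ⊥ := by
        rw [eq_bot_iff]
        intro x hx
        rw [Subgroup.mem_bot]
        apply hinj
        rw [map_one]
        refine LinearMap.ext fun v => ?_
        have : v ∈ Fx ρ D := by rw [hne]; trivial
        rw [this x hx, Module.End.one_apply]
      rw [h1] at hne ⊢
      rw [hne, finrank_top, Subgroup.card_bot, one_pow, one_mul]
    · obtain ⟨D', hlt, hcard, hfr⟩ := exists_step ρ hcA B hB hn ha hD h3 hne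
      have hlt' : Nat.card D' < n := by
        rw [← hDn]
        have h4 := Subgroup.card_le_of_le hlt.le
        refine lt_of_le_of_ne h4 fun h => hlt.ne ?_
        exact Subgroup.eq_of_le_of_card_ge hlt.le h.ge
      have h5 := ih _ hlt' D' rfl (fun x hx y hy => hD x (hlt.le hx) y (hlt.le hy)) (fun x hx => h3 x (hlt.le hx))
      calc Nat.card D ^ 2 * 3 ^ finrank k (Fx ρ D)
          ≤ (3 * Nat.card D') ^ 2 * 3 ^ finrank k (Fx ρ D) := by gcongr
        _ = Nat.card D' ^ 2 * 3 ^ (finrank k (Fx ρ D) + 2) := by ring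
        _ ≤ Nat.card D' ^ 2 * 3 ^ finrank k (Fx ρ D') := by gcongr; norm_num
        _ ≤ _ := h5

end

end Cfsg.Agent.H481.Hall
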